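import Cfsg.Agent.H853.ThC.Loc
import Cfsg.Agent.H689.Rat

/-!
# (M,23) of S4929: the character `β` (helper592)

`G` a finite group, `V` a rational valued character, `u` of prime order `p`:

* `gen_hom` : for a homomorphism `f : B → C(u)`, `p ∤ |B|`, the function `x ↦ V (u f(x))` is a generalized character;
* `reg_gen` : a class function which is generalized on all `p'`-subgroups, composed with the `p'`-part, is generalized;
* `exists_beta` : for `T ≤ C(u)` there is a generalized character `β` of `T` with `β s = V (u s)` for `s` of order prime to `p`.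
-/

set_option autoImplicit false

open Cfsg
open Cfsg.Agent.Characters
open scoped ComplexConjugate

namespace Cfsg.Agent.H592.HN

universe v w

/-- a rational valued character is invariant under the powers prime to the order -/
theorem rat_pow {G : Type v} [Group G] [Finite G] {V : G → ℂ} (hV : IsCharacter G V) (hr : ∀ g, ∃ q : ℚ, V g = q) {g : G}
    {m : ℕ} (hm : m.Coprime (orderOf g)) : V (g ^ m) = V g := by
  obtain ⟨m', h1, h2⟩ := Cfsg.Agent.H689.exists_coprime_lift (m := m) (a := orderOf g) (N := Nat.card G)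
    Nat.card_pos.ne' (orderOf_dvd_natCard g) hm
  have h3 := (GaloisBasic.exists_rat_iff hV g).1 (hr g) m' h1
  rw [pow_eq_pow_iff_modEq.2 h2] at h3
  exact h3

theorem exists_int {G : Type v} [Group G] [Finite G] {V : G → ℂ} (hV : IsCharacter G V) (hr : ∀ g, ∃ q : ℚ, V g = q) (g : G) :
    ∃ k : ℤ, V g = k :=
  GaloisBasic.exists_int_of_isIntegral (GaloisBasic.isIntegral_apply hV g) (hr g)

theorem gen_comp {G : Type v} [Group G] {H : Type w} [Group H] (f : H →* G) {χ : G → ℂ}
    (hχ : IsGeneralizedCharacter G χ) : IsGeneralizedCharacter H (fun x => χ (f x)) := by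
  obtain ⟨α, β, hα, hβ, rfl⟩ := hχ
  exact ⟨_, _, Core.isCharacter_comp f hα, Core.isCharacter_comp f hβ, rfl⟩

section hom

variable {G : Type v} [Group G] [Finite G] {V : G → ℂ} (hV : IsCharacter G V) (hr : ∀ g, ∃ q : ℚ, V g = q)
  {p : ℕ} (hp : p.Prime) {u : G} (hu : orderOf u = p)
include hV hr hp hu

/-- invariance under the powers prime to the order -/
theorem pow_eq {s : G} (hs : Commute u s) {k m : ℕ} (hk : ¬ p ∣ k) (hsk : s ^ k = 1) (hm : m.Coprime k) :
    V (u * s ^ m) = V (u * s) := by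
  have hcop : Nat.Coprime p k := (Nat.Prime.coprime_iff_not_dvd hp).2 hk
  obtain ⟨m', hm1, hm2⟩ := Nat.chineseRemainder hcop 1 m
  have hpow : (u * s) ^ m' = u * s ^ m := by
    rw [hs.mul_pow]
    congr 1
    · have h1 : u ^ m' = u ^ 1 := by
        rw [pow_eq_pow_iff_modEq, hu]
        exact hm1
      rw [h1, pow_one]
    · rw [pow_eq_pow_iff_modEq]
      exact hm2.of_dvd (orderOf_dvd_of_pow_eq_one hsk)
  have hmc : m'.Coprime (orderOf (u * s)) := by
    have h3 : orderOf (u * s) ∣ p * k := by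
      have h4 := hs.orderOf_mul_dvd_mul_orderOf
      rw [hu] at h4
      exact h4.trans (mul_dvd_mul_left p (orderOf_dvd_of_pow_eq_one hsk))
    refine Nat.Coprime.coprime_dvd_right h3 (Nat.Coprime.mul_right ?_ ?_)
    · have h4 := Nat.ModEq.gcd_eq hm1
      rw [Nat.gcd_one_left] at h4
      rw [Nat.Coprime]
      exact h4
    · have h4 := Nat.ModEq.gcd_eq hm2
      rw [Nat.Coprime, h4]
      exact hm
  rw [← hpow, rat_pow hV hr hmc]

/-- `x ↦ V (u f(x))` is generalized on `p'`-groups -/
theorem gen_hom {B : Type w} [Group B] [Finite B] (hB : ¬ p ∣ Nat.card B) (f : B →* G)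
    (hf : ∀ x, Commute u (f x)) : IsGeneralizedCharacter B (fun x => V (u * f x)) := by
  classical
  have : Fintype B := Fintype.ofFinite B
  refine Brauer.isGeneralizedCharacter_of_int ?_ fun χ hχ => ?_
  · intro g k
    have h1 : u * f (k * g * k⁻¹) = f k * (u * f g) * (f k)⁻¹ := by
      rw [map_mul, map_mul, map_inv]
      have h2 := (hf k).eq
      calc u * (f k * f g * (f k)⁻¹) = (u * f k) * f g * (f k)⁻¹ := by group
        _ = (f k * u) * f g * (f k)⁻¹ := by rw [h2]
        _ = f k * (u * f g) * (f k)⁻¹ := by group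
    show V (u * f (k * g * k⁻¹)) = V (u * f g)
    rw [h1, Core.isCharacter_isClassFunction hV]
  have hχc := Core.isIrr_isCharacter hχ
  -- integrality
  let C := Subgroup.zpowers u
  have hCP : ∀ (z : C) (x : B), Commute (C.subtype z) (f x) := by
    intro z x
    obtain ⟨j, hj⟩ := Subgroup.mem_zpowers_iff.1 z.2
    show Commute (z : G) (f x)
    rw [← hj]
    exact (hf x).zpow_left j
  let Ψ : C × B →* G := MonoidHom.noncommCoprod C.subtype f hCP
  have hΨ : ∀ z x, Ψ (z, x) = (z : G) * f x := fun _ _ => rfl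
  have hφ : IsCharacter (C × B) ((fun e : C × B => V (Ψ e)) * fun e : C × B => conj (χ e.2)) :=
    Core.isCharacter_mul (Core.isCharacter_comp Ψ hV)
      (Core.isCharacter_comp (MonoidHom.snd C B) (Core.isCharacter_conj hχc))
  let i : B →* C × B := MonoidHom.inr C B
  have hinj : Function.Injective i := fun x y h => (Prod.ext_iff.1 h).2
  let R : Subgroup (C × B) := i.range
  have : Fintype R := Fintype.ofFinite R
  let eR : B ≃* R := MonoidHom.ofInjective hinj
  have heR : ∀ x, ((eR x : R) : C × B) = (1, x) := fun _ => rfl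
  let b : C × B := (⟨u, Subgroup.mem_zpowers u⟩, 1)
  have hb : ∀ a ∈ R, Commute a b := by
    rintro _ ⟨x, rfl⟩
    apply Prod.ext
    · show (1 : C) * _ = _ * 1
      rw [one_mul, mul_one]
    · show x * 1 = 1 * x
      rw [one_mul, mul_one]
  have h1 := Cfsg.Agent.H853.ThC.isIntegral_avg_char hφ R b hb
  have h2 : (Nat.card R : ℂ)⁻¹ * ∑ a : R, ((fun e : C × B => V (Ψ e)) * fun e : C × B => conj (χ e.2)) ((a : C × B) * b) =
      classInner (fun x => V (u * f x)) χ := by
    rw [Core.classInner_def, Nat.card_congr eR.toEquiv.symm]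
    congr 1
    rw [← Equiv.sum_comp eR.toEquiv]
    refine Finset.sum_congr rfl fun x _ => ?_
    have h3 : (((eR.toEquiv x : R) : C × B) * b) = (⟨u, Subgroup.mem_zpowers u⟩, x) := by
      show ((eR x : R) : C × B) * b = _
      rw [heR]
      apply Prod.ext
      · show (1 : C) * _ = _
        rw [one_mul]
      · show x * 1 = x
        rw [mul_one]
    rw [h3]
    rfl
  rw [h2] at h1
  refine GaloisBasic.exists_int_of_isIntegral h1 ?_
  refine GaloisBasic.exists_rat_of_forall_ringEquiv (h1.tower_top) fun σ => ?_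
  refine Cfsg.Agent.H853.ThC.map_classInner (fun e => exists_int hV hr _) ?_ hχc σ
  intro m hm e
  show V (u * f (e ^ m)) = V (u * f e)
  rw [map_pow]
  exact pow_eq hV hr hp hu (hf e) hB (by rw [← map_pow, pow_card_eq_one', map_one]) hm

end hom

section reg

variable {G : Type v} [Group G] [Finite G]

/-- the `p'`-part is a uniform power -/
theorem exists_exp {p : ℕ} (hp : p.Prime) : ∃ m : ℕ, (∀ g : G, (∃ k, orderOf g = p ^ k) → g ^ m = 1) ∧
    ∀ g : G, ¬ p ∣ orderOf g → g ^ m = g := by
  set N := Nat.card G with hN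
  have hN0 : N ≠ 0 := Nat.card_pos.ne'
  have h1 : ordProj[p] N * ordCompl[p] N = N := Nat.ordProj_mul_ordCompl_eq_self N p
  have hcop : Nat.Coprime (ordProj[p] N) (ordCompl[p] N) := (Nat.coprime_ordCompl hp hN0).pow_left _
  obtain ⟨m, hm1, hm2⟩ := Nat.chineseRemainder hcop 0 1
  refine ⟨m, ?_, ?_⟩
  · rintro g ⟨k, hk⟩
    apply orderOf_dvd_iff_pow_eq_one.1
    have h2 : orderOf g ∣ N := orderOf_dvd_natCard g
    have h3 : orderOf g ∣ ordProj[p] N := by
      rw [hk] at h2 ⊢
      exact pow_dvd_pow p ((hp.pow_dvd_iff_le_factorization hN0).1 h2)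
    exact h3.trans ((Nat.modEq_zero_iff_dvd).1 hm1)
  · intro g hg
    have h2 : orderOf g ∣ N := orderOf_dvd_natCard g
    have h3 : orderOf g ∣ ordCompl[p] N := by
      rw [← h1] at h2
      refine Nat.Coprime.dvd_of_dvd_mul_left ?_ h2
      exact (Nat.Coprime.pow_right _ ((Nat.Prime.coprime_iff_not_dvd hp).2 hg).symm)
    have h4 : g ^ m = g ^ 1 := by
      rw [pow_eq_pow_iff_modEq]
      exact hm2.of_dvd h3
    rw [h4, pow_one]

/-- a class function which is generalized on the `p'`-subgroups, composed with the `p'`-part -/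
theorem reg_gen {f : G → ℂ} (hf : IsClassFunction G f) {p : ℕ} (hp : p.Prime)
    (hB : ∀ B : Subgroup G, ¬ p ∣ Nat.card B → IsGeneralizedCharacter B (fun x : B => f x)) {m : ℕ}
    (h0 : ∀ g : G, (∃ k, orderOf g = p ^ k) → g ^ m = 1) (h1 : ∀ g : G, ¬ p ∣ orderOf g → g ^ m = g) :
    IsGeneralizedCharacter G (fun g => f (g ^ m)) := by
  have hpF : Fact p.Prime := ⟨hp⟩
  refine Brauer.brauer_characterization _ ?_ fun E q hq hel => ?_
  · intro g k
    show f ((k * g * k⁻¹) ^ m) = f (g ^ m)
    rw [conj_pow, hf]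
  have hnil : Group.IsNilpotent E := H651.isNilpotent_of_isElementary hq hel
  obtain ⟨A, B, hA, hBc, ⟨e⟩⟩ := H651.exists_prod_of_nilpotent (E := E) p
  let i : B →* G := E.subtype.comp (e.toMonoidHom.comp (MonoidHom.inr A B))
  have hi : ∀ b, i b = ((e (1, b) : E) : G) := fun _ => rfl
  have hc : ¬ p ∣ Nat.card i.range := fun h => hBc (h.trans (Subgroup.card_range_dvd i))
  let π : E →* i.range := i.rangeRestrict.comp ((MonoidHom.snd A B).comp e.symm.toMonoidHom)
  have hπ : ∀ a b, ((π (e (a, b)) : i.range) : G) = ((e (1, b) : E) : G) := by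
    intro a b
    show i (e.symm (e (a, b))).2 = _
    rw [e.symm_apply_apply, hi]
  have h2 := gen_comp π (hB i.range hc)
  have h3 : (fun x : E => f ((x : G) ^ m)) = fun x => f ((π x : i.range) : G) := by
    funext x
    obtain ⟨⟨a, b⟩, rfl⟩ := e.surjective x
    rw [hπ]
    congr 1
    have h4 : ((e (a, b) : E) : G) = ((e (a, 1) : E) : G) * ((e (1, b) : E) : G) := by
      rw [← Subgroup.coe_mul, ← map_mul, Prod.mk_mul_mk, mul_one, one_mul]
    have h5 : Commute ((e (a, 1) : E) : G) ((e (1, b) : E) : G) := by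
      show ((e (a, 1) : E) : G) * ((e (1, b) : E) : G) = ((e (1, b) : E) : G) * ((e (a, 1) : E) : G)
      rw [← Subgroup.coe_mul, ← Subgroup.coe_mul, ← map_mul, ← map_mul, Prod.mk_mul_mk, Prod.mk_mul_mk, mul_one,
        one_mul, mul_one, one_mul]
    have h6 : ((e (a, 1) : E) : G) ^ m = 1 := by
      apply h0
      obtain ⟨k, hk⟩ := (IsPGroup.iff_orderOf.1 hA) a
      refine ⟨k, ?_⟩
      rw [Subgroup.orderOf_coe, MulEquiv.orderOf_eq, ← hk]
      exact orderOf_injective (MonoidHom.inl A B) (fun x y hxy => (Prod.ext_iff.1 hxy).1) a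
    have h7 : ((e (1, b) : E) : G) ^ m = ((e (1, b) : E) : G) := by
      apply h1
      rw [Subgroup.orderOf_coe, MulEquiv.orderOf_eq]
      have h8 : orderOf ((1, b) : A × B) = orderOf b :=
        orderOf_injective (MonoidHom.inr A B) (fun x y hxy => (Prod.ext_iff.1 hxy).2) b
      rw [h8]
      exact fun h => hBc (h.trans (orderOf_dvd_natCard b))
    rw [h4, h5.mul_pow, h6, h7, one_mul]
  rw [h3]
  exact h2

end reg

/-- **the generalized character `β`** -/
theorem exists_beta {G : Type v} [Group G] [Finite G] {V : G → ℂ} (hV : IsCharacter G V) (hr : ∀ g, ∃ q : ℚ, V g = q)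
    {p : ℕ} (hp : p.Prime) {u : G} (hu : orderOf u = p) {T : Subgroup G} (hT : ∀ s : T, Commute u (s : G)) :
    ∃ β : T → ℂ, IsGeneralizedCharacter T β ∧ ∀ s : T, ¬ p ∣ orderOf s → β s = V (u * s) := by
  obtain ⟨m, h0, h1⟩ := exists_exp (G := T) hp
  refine ⟨fun s => (fun x : T => V (u * x)) (s ^ m), reg_gen (f := fun x : T => V (u * x)) ?_ hp ?_ h0 h1, ?_⟩
  · intro g k
    have h2 := (hT k).eq
    have h3 : u * ((k * g * k⁻¹ : T) : G) = k * (u * g) * (k : G)⁻¹ := by
      push_cast
      calc u * (k * g * (k : G)⁻¹) = (u * k) * g * (k : G)⁻¹ := by group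
        _ = (k * u) * g * (k : G)⁻¹ := by rw [h2]
        _ = k * (u * g) * (k : G)⁻¹ := by group
    show V (u * ((k * g * k⁻¹ : T) : G)) = V (u * g)
    rw [h3, Core.isCharacter_isClassFunction hV]
  · intro B hB
    exact gen_hom hV hr hp hu hB (T.subtype.comp B.subtype) fun x => hT _
  · intro s hs
    show V (u * ((s ^ m : T) : G)) = V (u * s)
    rw [h1 s hs]

end Cfsg.Agent.H592.HN
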