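import Cfsg.Agent.H592.HN.Asm
import Cfsg.Agent.H875.M23.TraceChar

/-!
# (M,23) of S4929: the character `θ` of `HN` in the Monster (helper592)
-/

set_option autoImplicit false

open Cfsg
open Cfsg.Agent.Characters
open Cfsg.Agent.H651.HNF (Ty Table)
open Cfsg.Agent.BpSpor.MBigModel (MG)
open Cfsg.Agent.H875.M23.TraceChar (chi chi_irr chi_rat)

namespace Cfsg.Agent.H592.HN

universe v

theorem table_transfer {H K : Type} [Group H] [Group K] {ty : H → Ty} (h : Table H ty) (e : H ≃* K) :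
    Table K (fun k => ty (e.symm k)) where
  card := by rw [← Nat.card_congr e.toEquiv, h.card]
  sing g := by
    rw [h.sing, MulEquiv.orderOf_eq]
  ord g hg := by
    rw [← h.ord _ hg, MulEquiv.orderOf_eq]
  cent g hg := by
    rw [← h.cent _ hg]
    refine Nat.card_congr (e.symm.toEquiv.subtypeEquiv fun x => ?_)
    rw [Subgroup.mem_centralizer_singleton_iff, Subgroup.mem_centralizer_singleton_iff]
    show _ ↔ e.symm x * e.symm g = e.symm g * e.symm x
    rw [← map_mul, ← map_mul]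
    exact e.symm.injective.eq_iff.symm
  inv g k hgk := h.inv _ _ (e.symm.toMonoidHom.map_isConj hgk)
  conj g k h1 h2 h3 := by
    have h4 := e.toMonoidHom.map_isConj (h.conj _ _ h1 h2 h3)
    have h5 : ∀ x, e.toMonoidHom (e.symm x) = x := fun x => e.apply_symm_apply x
    rwa [h5, h5] at h4
  pow g p hp hg := by
    show ty (e.symm (g ^ p)) = _
    rw [map_pow]
    exact h.pow _ p hp hg
  real g hg m hm := by
    show ty (e.symm (g ^ m)) = _
    rw [map_pow]
    exact h.real _ hg m (by rwa [MulEquiv.orderOf_eq])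
  num t ht := by
    rw [← h.num t ht]
    exact Nat.card_congr (e.symm.toEquiv.subtypeEquiv fun x => Iff.rfl)

/-- **the character `θ`** -/
theorem final [Finite MG] {u : MG} {C T : Subgroup MG} {t y : T} [Fintype T] (L : H66.M23.Five.Local u C T t y)
    (e : Spor.HN ≃* T) {ty : Spor.HN → Ty} (tab : Table Spor.HN ty) {b : Spor.HN → ℤ}
    (hb : ∀ h, chi (u * ((e h : T) : MG)) = b h) (hbv : ∀ g, ty g ≠ .sing → b g = (ty g).b)
    (gen : ∀ β : Spor.HN → ℂ, IsGeneralizedCharacter Spor.HN β → (∀ g, ty g ≠ .sing → β g = ((ty g).b : ℂ)) →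
      IsGeneralizedCharacter Spor.HN (fun g => ((ty g).th : ℂ))) :
    ∃ θ : T → ℂ, H691.M23.ThetaOf chi u T θ F ∧ chi u = 133 ∧ chi (u * t) = 21 ∧ chi (u * y) = 1 ∧
      chi (u * (t * y : T)) = -1 ∧
      ∃ m : ℤ, Odd m ∧ classInner (fun s : T =>
        (chi (u * s) ^ 4 + 3 * chi ((u * s) ^ 2) ^ 2 - 4 * (chi (u * s) * chi ((u * s) ^ 3))) / 12) θ = m := by
  have hc : ∀ s : T, Commute u (s : MG) := fun s => by
    have h2 : (s : MG) ∈ Subgroup.centralizer ({u} : Set MG) := by rw [← L.cent]; exact L.le s.2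
    exact (Subgroup.mem_centralizer_singleton_iff.1 h2).symm
  have hV := Core.isIrr_isCharacter chi_irr
  have hv : ∀ s : T, ty (e.symm s) ≠ .sing → chi (u * s) = ((ty (e.symm s)).b : ℂ) := fun s hs => by
    have h1 := hb (e.symm s)
    rw [e.apply_symm_apply] at h1
    rw [h1, hbv _ hs]
  have tab' := table_transfer tab e
  -- `β`
  obtain ⟨β, hβ, hβv⟩ := exists_beta hV chi_rat Nat.prime_five L.ord hc
  have h1 := gen (fun h => β (e h)) (gen_comp e.toMonoidHom hβ) (fun g hg => by
    have h2 : ¬ 5 ∣ orderOf (e g) := by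
      rw [MulEquiv.orderOf_eq]
      exact fun h => hg ((tab.sing g).2 h)
    rw [hβv _ h2, hb, hbv _ hg])
  have h2 : IsGeneralizedCharacter T (fun g => ((ty (e.symm g)).th : ℂ)) := gen_comp e.symm.toMonoidHom h1
  exact target hV chi_rat L.ord hc tab' hv h2 L.ot L.cT L.oy L.comm

end Cfsg.Agent.H592.HN
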